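import Mathlib.RingTheory.Flat.FaithfullyFlat.Algebra
import Mathlib.LinearAlgebra.TensorProduct.Pi
import Mathlib.LinearAlgebra.Matrix.NonsingularInverse
import Mathlib.LinearAlgebra.Matrix.ToLin
import Mathlib.AlgebraicGeometry.Morphisms.Flat
import Mathlib.RingTheory.Localization.Away.Basic

/-!
# Frames for descent data on free modules

A matrix cocycle `R` on `C ⊗[A] C`, `C` faithfully flat over `A`, has fixed frames Zariski locally on `A`.
-/

set_option autoImplicit false

universe u

open CategoryTheory Limits AlgebraicGeometry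
open scoped TensorProduct Matrix

namespace Groth.Agent.GLDescent

noncomputable section

variable (A C : Type u) [CommRing A] [CommRing C] [Algebra A C]

/-- The first factor. -/
abbrev i₁ : C →ₐ[A] C ⊗[A] C := Algebra.TensorProduct.includeLeft
/-- The second factor. -/
abbrev i₂ : C →ₐ[A] C ⊗[A] C := Algebra.TensorProduct.includeRight

/-- The zeroth factor of the triple product. -/
abbrev j₀ : C →ₐ[A] C ⊗[A] (C ⊗[A] C) := Algebra.TensorProduct.includeLeft
/-- The first factor of the triple product. -/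
abbrev j₁ : C →ₐ[A] C ⊗[A] (C ⊗[A] C) := Algebra.TensorProduct.includeRight.comp (i₁ A C)
/-- The second factor of the triple product. -/
abbrev j₂ : C →ₐ[A] C ⊗[A] (C ⊗[A] C) := Algebra.TensorProduct.includeRight.comp (i₂ A C)

variable {A C}

/-- A pair of factors. -/
abbrev pr {D : Type u} [CommRing D] [Algebra A D] (f g : C →ₐ[A] D) : C ⊗[A] C →ₐ[A] D :=
  Algebra.TensorProduct.lift f g fun _ _ => Commute.all _ _

@[simp] theorem pr_tmul {D : Type u} [CommRing D] [Algebra A D] (f g : C →ₐ[A] D) (a b : C) :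
    pr f g (a ⊗ₜ b) = f a * g b := Algebra.TensorProduct.lift_tmul _ _ _ a b

variable {n : Type} [Fintype n] [DecidableEq n] (R : Matrix n n (C ⊗[A] C))

/-- The cocycle condition. -/
def IsCocycle : Prop :=
  R.map (pr (j₀ A C) (j₁ A C)) * R.map (pr (j₁ A C) (j₂ A C)) = R.map (pr (j₀ A C) (j₂ A C)) ∧ IsUnit R.det

/-- The defect of being fixed. -/
def defect : (n → C) →ₗ[A] (n → C ⊗[A] C) where
  toFun v := (fun i => i₁ A C (v i)) - R *ᵥ fun i => i₂ A C (v i)
  map_add' v w := by
    funext i
    simp [Matrix.mulVec, dotProduct, map_add, mul_add, Finset.sum_add_distrib, TensorProduct.add_tmul,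
      TensorProduct.tmul_add]
    abel
  map_smul' a v := by
    funext i
    simp [Matrix.mulVec, dotProduct, map_smul, Finset.smul_sum, smul_sub, TensorProduct.smul_tmul']
    refine Finset.sum_congr rfl fun x _ => ?_
    rw [← mul_smul_comm, TensorProduct.smul_tmul']

variable {R}

theorem map_pr_map {D : Type u} [CommRing D] [Algebra A D] {E : Type u} [CommRing E] [Algebra A E]
    (σ : D →ₐ[A] E) (f g : C →ₐ[A] D) :
    (R.map (pr f g)).map σ = R.map (pr (σ.comp f) (σ.comp g)) := by
  refine Matrix.ext fun i j => ?_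
  show σ (pr f g (R i j)) = pr _ _ (R i j)
  exact DFunLike.congr_fun (Algebra.TensorProduct.ext' (g := σ.comp (pr f g)) (h := pr (σ.comp f) (σ.comp g))
    fun a b => by simp) (R i j)

theorem IsCocycle.apply (h : IsCocycle R) {D : Type u} [CommRing D] [Algebra A D] (f₀ f₁ f₂ : C →ₐ[A] D) :
    R.map (pr f₀ f₁) * R.map (pr f₁ f₂) = R.map (pr f₀ f₂) := by
  let σ : C ⊗[A] (C ⊗[A] C) →ₐ[A] D := Algebra.TensorProduct.lift f₀ (pr f₁ f₂) fun _ _ => Commute.all _ _
  have h0 : σ.comp (j₀ A C) = f₀ := AlgHom.ext fun c => by simp [σ, ← Algebra.TensorProduct.one_def]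
  have h1 : σ.comp (j₁ A C) = f₁ := AlgHom.ext fun c => by simp [σ]
  have h2 : σ.comp (j₂ A C) = f₂ := AlgHom.ext fun c => by simp [σ]
  have e := congrArg (fun M : Matrix n n (C ⊗[A] (C ⊗[A] C)) => M.map σ) h.1
  simp only [Matrix.map_mul, map_pr_map, h0, h1, h2] at e
  exact e

theorem IsCocycle.diag (h : IsCocycle R) : R.map (pr (AlgHom.id A C) (AlgHom.id A C)) = 1 := by
  have e := h.apply (AlgHom.id A C) (AlgHom.id A C) (AlgHom.id A C)
  have hu : IsUnit (R.map (pr (AlgHom.id A C) (AlgHom.id A C))) := by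
    rw [Matrix.isUnit_iff_isUnit_det]
    have := h.2.map (pr (AlgHom.id A C) (AlgHom.id A C))
    rwa [AlgHom.map_det] at this
  exact hu.mul_right_cancel (e.trans (one_mul _).symm)

theorem IsCocycle.span_ker [Module.Flat A C] (h : IsCocycle R) :
    Submodule.span C ((LinearMap.ker (defect R) : Submodule A (n → C)) : Set (n → C)) = ⊤ := by
  refine eq_top_iff.2 fun v _ => ?_
  let W : n → C ⊗[A] C := R.map (pr (i₂ A C) (i₁ A C)) *ᵥ fun i => i₁ A C (v i)
  let w : C ⊗[A] (n → C) := (TensorProduct.piRight A A C fun _ : n => C).symm W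
  have hW : TensorProduct.piRight A A C (fun _ : n => C) w = W := LinearEquiv.apply_symm_apply _ _
  -- the defect of `w`
  have key : ∀ z : C ⊗[A] (n → C), TensorProduct.piRight A A C (fun _ : n => C ⊗[A] C)
      (LinearMap.lTensor C (defect R) z) =
      (fun i => pr (j₀ A C) (j₁ A C) (TensorProduct.piRight A A C (fun _ : n => C) z i)) -
        R.map (pr (j₁ A C) (j₂ A C)) *ᵥ fun i => pr (j₀ A C) (j₂ A C) (TensorProduct.piRight A A C (fun _ : n => C) z i) := by
    intro z
    induction z using TensorProduct.induction_on with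
    | zero => funext i; simp [Matrix.mulVec, dotProduct]
    | tmul c u =>
      funext i
      simp only [LinearMap.lTensor_tmul, TensorProduct.piRight_apply, TensorProduct.piRightHom_tmul, Pi.sub_apply,
        pr_tmul, defect, LinearMap.coe_mk, AddHom.coe_mk, TensorProduct.tmul_sub, Matrix.mulVec, dotProduct,
        Matrix.map_apply, TensorProduct.tmul_sum]
      have hid : pr (j₁ A C) (j₂ A C) = Algebra.TensorProduct.includeRight :=
        Algebra.TensorProduct.ext' fun a b => by simp
      rw [hid]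
      simp [Matrix.mulVec, dotProduct, TensorProduct.tmul_sum, Algebra.TensorProduct.tmul_mul_tmul]
    | add z z' hz hz' =>
      funext i
      simp only [map_add, Pi.add_apply, hz, hz', Pi.sub_apply, Matrix.mulVec, dotProduct, mul_add,
        Finset.sum_add_distrib]
      abel
  have hw0 : LinearMap.lTensor C (defect R) w = 0 := by
    refine (TensorProduct.piRight A A C fun _ : n => C ⊗[A] C).injective ?_
    rw [key, hW, map_zero]
    have e1 : (fun i => pr (j₀ A C) (j₁ A C) (W i)) = R.map (pr (j₁ A C) (j₀ A C)) *ᵥ fun i => j₀ A C (v i) := by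
      funext i
      show pr (j₀ A C) (j₁ A C) ((R.map (pr (i₂ A C) (i₁ A C)) *ᵥ fun i => i₁ A C (v i)) i) = _
      simp only [Matrix.mulVec, dotProduct, map_sum, map_mul, Matrix.map_apply]
      refine Finset.sum_congr rfl fun k _ => ?_
      congr 1
      · exact DFunLike.congr_fun (Algebra.TensorProduct.ext'
          (g := (pr (j₀ A C) (j₁ A C)).comp (pr (i₂ A C) (i₁ A C))) (h := pr (j₁ A C) (j₀ A C))
          fun a b => by simp [mul_comm]) (R i k)
      · simp [← Algebra.TensorProduct.one_def]
    have e2 : (fun i => pr (j₀ A C) (j₂ A C) (W i)) = R.map (pr (j₂ A C) (j₀ A C)) *ᵥ fun i => j₀ A C (v i) := by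
      funext i
      show pr (j₀ A C) (j₂ A C) ((R.map (pr (i₂ A C) (i₁ A C)) *ᵥ fun i => i₁ A C (v i)) i) = _
      simp only [Matrix.mulVec, dotProduct, map_sum, map_mul, Matrix.map_apply]
      refine Finset.sum_congr rfl fun k _ => ?_
      congr 1
      · exact DFunLike.congr_fun (Algebra.TensorProduct.ext'
          (g := (pr (j₀ A C) (j₂ A C)).comp (pr (i₂ A C) (i₁ A C))) (h := pr (j₂ A C) (j₀ A C))
          fun a b => by simp [mul_comm]) (R i k)
      · simp [← Algebra.TensorProduct.one_def]
    rw [e1, e2, Matrix.mulVec_mulVec, h.apply, sub_self]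
  obtain ⟨m, hm⟩ := (Module.Flat.lTensor_exact C (LinearMap.exact_subtype_ker_map (defect R)) w).1 hw0
  -- multiplication
  let μ : C ⊗[A] (n → C) →ₗ[A] (n → C) := LinearMap.pi fun i => (LinearMap.mul' A C).comp ((LinearMap.proj i).comp
      (TensorProduct.piRight A A C fun _ : n => C).toLinearMap)
  have hμ : ∀ (c : C) (u : n → C), μ (c ⊗ₜ u) = c • u := fun c u => by
    funext i; simp [μ]
  have hspan : μ w ∈ Submodule.span C ((LinearMap.ker (defect R) : Submodule A (n → C)) : Set (n → C)) := by
    rw [← hm]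
    clear hm
    induction m using TensorProduct.induction_on with
    | zero => simp
    | tmul c u =>
      rw [LinearMap.lTensor_tmul, hμ]
      exact Submodule.smul_mem _ c (Submodule.subset_span u.2)
    | add x y hx hy => rw [map_add, map_add]; exact Submodule.add_mem _ hx hy
  convert hspan
  funext i
  have hmul : ∀ z : C ⊗[A] C, LinearMap.mul' A C z = pr (AlgHom.id A C) (AlgHom.id A C) z := fun z => by
    induction z using TensorProduct.induction_on with
    | zero => simp
    | tmul a b => simp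
    | add x y hx hy => rw [map_add, map_add, hx, hy]
  have hv : μ w i = pr (AlgHom.id A C) (AlgHom.id A C) (W i) := by
    simp [μ, hW, hmul]
  rw [hv]
  show v i = pr (AlgHom.id A C) (AlgHom.id A C) ((R.map (pr (i₂ A C) (i₁ A C)) *ᵥ fun i => i₁ A C (v i)) i)
  simp only [Matrix.mulVec, dotProduct, map_sum, map_mul, Matrix.map_apply]
  have e3 : ∀ k, pr (AlgHom.id A C) (AlgHom.id A C) (pr (i₂ A C) (i₁ A C) (R i k)) = (1 : Matrix n n C) i k := fun k => by
    rw [← h.diag]
    exact DFunLike.congr_fun (Algebra.TensorProduct.ext'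
      (g := (pr (AlgHom.id A C) (AlgHom.id A C)).comp (pr (i₂ A C) (i₁ A C))) (h := pr (AlgHom.id A C) (AlgHom.id A C))
      fun a b => by simp [mul_comm]) (R i k)
  simp [e3, Matrix.one_apply]

omit [DecidableEq n] in
theorem exists_prime_tensor (y y' : PrimeSpectrum C)
    (h : PrimeSpectrum.comap (algebraMap A C) y = PrimeSpectrum.comap (algebraMap A C) y') :
    ∃ z : PrimeSpectrum (C ⊗[A] C), PrimeSpectrum.comap (i₁ A C).toRingHom z = y ∧
      PrimeSpectrum.comap (i₂ A C).toRingHom z = y' := by
  obtain ⟨P, hP₁, hP₂⟩ := Scheme.Pullback.exists_preimage_pullback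
    (f := Spec.map (CommRingCat.ofHom (algebraMap A C))) (g := Spec.map (CommRingCat.ofHom (algebraMap A C))) y y' h
  refine ⟨(pullbackSpecIso A C C).hom.base P, ?_, ?_⟩
  · rw [← hP₁, ← pullbackSpecIso_hom_fst A C C, Scheme.Hom.comp_apply]; rfl
  · rw [← hP₂, ← pullbackSpecIso_hom_snd A C C, Scheme.Hom.comp_apply]; rfl

/-- Fixed frames exist Zariski locally on the base. -/
theorem IsCocycle.exists_frame [Module.FaithfullyFlat A C] (h : IsCocycle R) (p : PrimeSpectrum A) :
    ∃ (a : A) (Φ : Matrix n n C), a ∉ p.asIdeal ∧ Φ.map (i₁ A C) = R * Φ.map (i₂ A C) ∧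
      ∀ (L : Type u) [CommRing L] (φ : C →+* L), IsUnit (φ (algebraMap A C a)) → IsUnit (φ Φ.det) := by
  obtain ⟨x, hx⟩ := PrimeSpectrum.comap_surjective_of_faithfullyFlat (A := A) (B := C) p
  let K := FractionRing (C ⧸ x.asIdeal)
  let ψ : C →+* K := (algebraMap (C ⧸ x.asIdeal) K).comp (Ideal.Quotient.mk x.asIdeal)
  have hψ : ∀ c, ψ c = 0 ↔ c ∈ x.asIdeal := fun c => by
    simp only [ψ, RingHom.comp_apply]
    rw [map_eq_zero_iff _ (IsFractionRing.injective (C ⧸ x.asIdeal) K), Ideal.Quotient.eq_zero_iff_mem]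
  let S : Set (n → K) := {u | ∃ v ∈ LinearMap.ker (defect R), u = ψ ∘ v}
  have hS : Submodule.span K S = ⊤ := by
    refine eq_top_iff.2 fun u _ => ?_
    rw [show u = ∑ i, u i • (Pi.single i (1 : K) : n → K) by
      funext k; simp [Pi.single_apply]]
    refine Submodule.sum_mem _ fun i _ => Submodule.smul_mem _ _ ?_
    have : ∀ v ∈ Submodule.span C ((LinearMap.ker (defect R) : Submodule A (n → C)) : Set (n → C)),
        ψ ∘ v ∈ Submodule.span K S := by
      intro v hv
      induction hv using Submodule.span_induction with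
      | mem v hv => exact Submodule.subset_span ⟨v, hv, rfl⟩
      | zero => convert Submodule.zero_mem (Submodule.span K S); funext k; simp
      | add v w _ _ hv hw => convert Submodule.add_mem _ hv hw using 1; funext k; simp
      | smul c v _ hv => convert Submodule.smul_mem _ (ψ c) hv using 1; funext k; simp
    have h1 := this (Pi.single i (1 : C)) (by rw [h.span_ker]; trivial)
    convert h1
    funext k
    by_cases hk : k = i
    · subst hk; simp
    · simp [Pi.single_eq_of_ne hk]
  obtain ⟨b, hbS, hbspan, hbind⟩ := exists_linearIndependent K S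
  let B := Module.Basis.mk hbind (by rw [Subtype.range_coe, hbspan, hS])
  let e : n ≃ b := (Pi.basisFun K n).indexEquiv B
  choose v hv hve using fun j : n => hbS (e j).2
  let Φ : Matrix n n C := Matrix.of fun i j => v j i
  have hΦ : Φ.map (i₁ A C) = R * Φ.map (i₂ A C) := by
    refine Matrix.ext fun i j => ?_
    have h0 := congrFun (show defect R (v j) = 0 from hv j) i
    exact sub_eq_zero.1 h0
  have hD : ψ Φ.det ≠ 0 := by
    rw [RingHom.map_det]
    have hli : LinearIndependent K fun j => (ψ.mapMatrix Φ).col j := by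
      have : (fun j => (ψ.mapMatrix Φ).col j) = fun j => B (e j) := by
        funext j i
        rw [Module.Basis.mk_apply, hve j]
        rfl
      rw [this]
      exact B.linearIndependent.comp e e.injective
    exact ((Matrix.isUnit_iff_isUnit_det _).1 (Matrix.linearIndependent_cols_iff_isUnit.1 hli)).ne_zero
  have hrel : i₁ A C Φ.det = R.det * i₂ A C Φ.det := by
    have := congrArg Matrix.det hΦ
    rwa [Matrix.det_mul, ← AlgHom.mapMatrix_apply, ← AlgHom.mapMatrix_apply, ← AlgHom.map_det, ← AlgHom.map_det] at this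
  -- saturation of the zero locus
  have hsat : ∀ y y' : PrimeSpectrum C, PrimeSpectrum.comap (algebraMap A C) y = PrimeSpectrum.comap (algebraMap A C) y' →
      Φ.det ∈ y'.asIdeal → Φ.det ∈ y.asIdeal := by
    intro y y' e hy'
    obtain ⟨z, hz₁, hz₂⟩ := exists_prime_tensor y y' e
    rw [← hz₂] at hy'
    rw [← hz₁]
    show i₁ A C Φ.det ∈ z.asIdeal
    rw [hrel]
    exact z.asIdeal.mul_mem_left _ hy'
  let f := Spec.map (CommRingCat.ofHom (algebraMap A C))
  have : Flat f := (HasRingHomProperty.Spec_iff (P := @Flat)).2 (RingHom.flat_algebraMap_iff.2 inferInstance)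
  have : Surjective f := ⟨PrimeSpectrum.comap_surjective_of_faithfullyFlat (A := A) (B := C)⟩
  let Z : Set (PrimeSpectrum A) := PrimeSpectrum.comap (algebraMap A C) '' PrimeSpectrum.zeroLocus {Φ.det}
  have hpre : PrimeSpectrum.comap (algebraMap A C) ⁻¹' Z = PrimeSpectrum.zeroLocus {Φ.det} := by
    refine Set.Subset.antisymm ?_ (Set.subset_preimage_image _ _)
    rintro y ⟨y', hy', e⟩
    simp only [PrimeSpectrum.mem_zeroLocus, Set.singleton_subset_iff, SetLike.mem_coe] at hy' ⊢
    exact hsat y y' e.symm hy'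
  have hZ : IsClosed Z := by
    refine (Flat.isQuotientMap_of_surjective f).isClosed_preimage.1 ?_
    show IsClosed (PrimeSpectrum.comap (algebraMap A C) ⁻¹' Z)
    rw [hpre]
    exact PrimeSpectrum.isClosed_zeroLocus _
  have hpZ : p ∉ Z := by
    intro hp
    rw [← hx] at hp
    have : x ∈ PrimeSpectrum.zeroLocus {Φ.det} := hpre ▸ hp
    simp only [PrimeSpectrum.mem_zeroLocus, Set.singleton_subset_iff, SetLike.mem_coe] at this
    exact hD ((hψ _).2 this)
  obtain ⟨_, ⟨a, rfl⟩, hap, hasub⟩ := PrimeSpectrum.isTopologicalBasis_basic_opens.exists_subset_of_mem_open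
    hpZ hZ.isOpen_compl
  refine ⟨a, Φ, hap, hΦ, fun L _ φ hφ => ?_⟩
  by_contra hu
  obtain ⟨q, hq, hmem⟩ := exists_max_ideal_of_mem_nonunits (mem_nonunits_iff.2 hu)
  let y : PrimeSpectrum C := PrimeSpectrum.comap φ ⟨q, hq.isPrime⟩
  refine hasub (show PrimeSpectrum.comap (algebraMap A C) y ∈ (PrimeSpectrum.basicOpen a : Set (PrimeSpectrum A)) from ?_)
    ⟨y, ?_, rfl⟩
  · exact fun ha => hq.ne_top (Ideal.eq_top_of_isUnit_mem _ ha hφ)
  · simp only [PrimeSpectrum.mem_zeroLocus, Set.singleton_subset_iff, SetLike.mem_coe]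
    exact hmem

end

end Groth.Agent.GLDescent
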