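import Groth.Agent.GLDescent.Special
import Groth.Agent.GITLib.Pushforward

/-!
# Torsors under extensions of groups

Torsors over a relative base seen over the ground base, and the torsor `P ⟶ P ×^G Q` under the kernel.
-/

set_option autoImplicit false
set_option linter.style.haveILetI false

universe u

open CategoryTheory CategoryTheory.Limits MonoidalCategory CartesianMonoidalCategory MonObj AlgebraicGeometry

namespace Groth.Agent.GLDescent

open Groth.Agent.GITLib

noncomputable section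

variable {S₀ : Scheme.{u}} {G : Over S₀} [GrpObj G] {Y : Over S₀}

theorem homEquiv_mul {T : Over Y.left} (g g' : (Over.map Y.hom).obj T ⟶ G) :
    (Over.mapPullbackAdj Y.hom).homEquiv T G (g * g') =
      ((Over.mapPullbackAdj Y.hom).homEquiv T G g * (Over.mapPullbackAdj Y.hom).homEquiv T G g' :
        T ⟶ Red.bc Y.hom G) := by
  rw [Adjunction.homEquiv_unit, Functor.map_mul, MonObj.comp_mul, ← Adjunction.homEquiv_unit,
    ← Adjunction.homEquiv_unit]

theorem homEquiv_one (T : Over Y.left) :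
    (Over.mapPullbackAdj Y.hom).homEquiv T G 1 = (1 : T ⟶ Red.bc Y.hom G) := by
  have h := homEquiv_mul (1 : (Over.map Y.hom).obj T ⟶ G) 1
  rw [_root_.mul_one] at h
  exact mul_eq_left.1 h.symm

/-- An action of a base-changed group with a cartesian square gives one over the ground base. -/
theorem exists_action_down {P P' : Over Y.left} (b : AlgGrp.Action (Red.bc Y.hom G) P) (π : P ⟶ P')
    (hcart : IsPullback b.act (snd (Red.bc Y.hom G) P) π π) :
    ∃ a : AlgGrp.Action G ((Over.map Y.hom).obj P),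
      IsPullback a.act (snd G ((Over.map Y.hom).obj P)) ((Over.map Y.hom).map π) ((Over.map Y.hom).map π) := by
  let M := (Over.map Y.hom).obj P
  let adj := Over.mapPullbackAdj Y.hom
  let tY : ∀ {T : Over S₀} (_ : T ⟶ M), Over Y.left := fun x => Over.mk (x.left ≫ P.hom)
  let e₀ : ∀ {T : Over S₀} (x : T ⟶ M), (Over.map Y.hom).obj (tY x) ⟶ T := fun {T} x =>
    Over.homMk (𝟙 T.left) (by
      show 𝟙 T.left ≫ T.hom = (x.left ≫ P.hom) ≫ Y.hom
      rw [Category.id_comp, Category.assoc]; exact (Over.w x).symm)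
  let xY : ∀ {T : Over S₀} (x : T ⟶ M), tY x ⟶ P := fun x => Over.homMk x.left rfl
  let gY : ∀ {T : Over S₀} (x : T ⟶ M) (_ : T ⟶ G), tY x ⟶ Red.bc Y.hom G :=
    fun x g => adj.homEquiv _ _ (e₀ x ≫ g)
  let smul : ∀ {T : Over S₀} (_ : T ⟶ G) (_ : T ⟶ M), T ⟶ M := fun {T} g x =>
    Over.homMk (lift (gY x g) (xY x) ≫ b.act).left (by
      show (lift (gY x g) (xY x) ≫ b.act).left ≫ P.hom ≫ Y.hom = T.hom
      rw [← Category.assoc, Over.w]
      exact (Category.assoc _ _ _).trans (Over.w x))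
  have spec : ∀ {T : Over S₀} {T₁ : Over Y.left} (e : (Over.map Y.hom).obj T₁ ⟶ T) (g : T ⟶ G) (x : T ⟶ M)
      (x₁ : T₁ ⟶ P), x₁.left = e.left ≫ x.left →
      e.left ≫ (smul g x).left = (lift (adj.homEquiv _ _ (e ≫ g)) x₁ ≫ b.act).left := by
    intro T T₁ e g x x₁ h
    let k : T₁ ⟶ tY x := Over.homMk e.left (by
      show e.left ≫ x.left ≫ P.hom = T₁.hom
      rw [← Category.assoc, ← h]; exact Over.w x₁)
    have hkg : k ≫ gY x g = adj.homEquiv _ _ (e ≫ g) := by
      show k ≫ adj.homEquiv _ _ (e₀ x ≫ g) = _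
      rw [← Adjunction.homEquiv_naturality_left, ← Category.assoc]
      refine congrArg (fun m => adj.homEquiv _ _ (m ≫ g)) (Over.OverMorphism.ext ?_)
      exact Category.comp_id _
    have hkx : k ≫ xY x = x₁ := Over.OverMorphism.ext h.symm
    show k.left ≫ (lift (gY x g) (xY x) ≫ b.act).left = _
    rw [← Over.comp_left, comp_lift_assoc, hkg, hkx]
  let act : G ⊗ M ⟶ M := smul (fst G M) (snd G M)
  have hact : ∀ {T : Over S₀} (g : T ⟶ G) (x : T ⟶ M), lift g x ≫ act = smul g x := by
    intro T g x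
    refine Over.OverMorphism.ext ?_
    have h := spec (e₀ x ≫ lift g x) (fst G M) (snd G M) (xY x) (by
      show x.left = (e₀ x ≫ lift g x).left ≫ (snd G M).left
      rw [← Over.comp_left, Category.assoc, lift_snd]
      exact (Category.id_comp x.left).symm)
    rw [Category.assoc, lift_fst] at h
    refine Eq.trans ?_ h
    show _ = (𝟙 T.left ≫ (lift g x).left) ≫ _
    rw [Category.id_comp]
    rfl
  let a : AlgGrp.Action G M :=
    { act := act
      one_act := by
        have : lift (1 : 𝟙_ (Over S₀) ⊗ M ⟶ G) (snd _ M) ≫ act = snd _ M := by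
          rw [hact]
          refine Over.OverMorphism.ext ?_
          show (lift (adj.homEquiv _ _ (e₀ _ ≫ 1)) (xY _) ≫ b.act).left = _
          rw [MonObj.comp_one, homEquiv_one, b.lift_one_act]
          rfl
        rw [leftUnitor_hom, ← this]
        refine congrArg (fun w => w ≫ act) (CartesianMonoidalCategory.hom_ext _ _ ?_ ?_)
        · rw [whiskerRight_fst, lift_fst, Hom.one_def, toUnit_unique (toUnit _) (fst (𝟙_ (Over S₀)) M)]
        · simp
      mul_act := by
        apply AlgGrp.Action.hom_ext_lift₃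
        intro T g g' x
        rw [lift_whiskerRight_assoc, ← Hom.mul_def, lift_lift_associator_hom_assoc,
          lift_whiskerLeft_assoc, hact, hact, hact]
        refine Over.OverMorphism.ext ?_
        have h := spec (e₀ x) g (smul g' x) (lift (gY x g') (xY x) ≫ b.act) (Category.id_comp _).symm
        show (lift (adj.homEquiv _ _ (e₀ x ≫ (g * g'))) (xY x) ≫ b.act).left = _
        rw [MonObj.comp_mul, homEquiv_mul, b.lift_mul_act, ← h]
        exact Category.id_comp _ }
  refine ⟨a, IsPullback.of_isLimit' ⟨?_⟩ ?_⟩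
  · refine Over.OverMorphism.ext ?_
    have e := congrArg (lift (gY (snd G M) (fst G M)) (xY (snd G M)) ≫ ·) hcart.w
    rw [lift_snd_assoc] at e
    have e' : ((lift (gY (snd G M) (fst G M)) (xY (snd G M)) ≫ b.act) ≫ π).left = (xY (snd G M) ≫ π).left := by
      rw [Category.assoc, e]
    exact e'
  refine PullbackCone.IsLimit.mk _ (fun s => ?_) (fun s => ?_) (fun s => ?_) (fun s m h₁ h₂ => ?_) <;>
    have hs : s.fst.left ≫ π.left = s.snd.left ≫ π.left := (congrArg CommaMorphism.left s.condition :) <;>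
    let x₁ : tY s.snd ⟶ P := Over.homMk s.fst.left (by
      show s.fst.left ≫ P.hom = s.snd.left ≫ P.hom
      rw [← Over.w π, ← Category.assoc, hs, Category.assoc]) <;>
    let l := hcart.lift x₁ (xY s.snd) (Over.OverMorphism.ext hs) <;>
    let g₁ := adj.homEquiv _ _ |>.symm (l ≫ fst (Red.bc Y.hom G) P) <;>
    let g₀ : s.pt ⟶ G := Over.homMk g₁.left (by
      have := Over.w g₁
      refine this.trans ?_
      show (s.snd.left ≫ P.hom) ≫ Y.hom = _
      rw [Category.assoc]; exact Over.w s.snd)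
  · exact lift g₀ s.snd
  · show lift g₀ s.snd ≫ act = s.fst
    rw [hact]
    refine Over.OverMorphism.ext ?_
    have hg : gY s.snd g₀ = l ≫ fst (Red.bc Y.hom G) P := by
      rw [← Equiv.eq_symm_apply]
      exact Over.OverMorphism.ext (Category.id_comp _)
    show (lift (gY s.snd g₀) (xY s.snd) ≫ b.act).left = _
    have hl : lift (l ≫ fst (Red.bc Y.hom G) P) (xY s.snd) = l := by
      conv_rhs => rw [← lift_comp_fst_snd l]
      rw [hcart.lift_snd]
    rw [hg, hl, hcart.lift_fst]
    rfl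
  · exact lift_snd _ _
  · have hg : gY s.snd (m ≫ fst G M) = l ≫ fst (Red.bc Y.hom G) P := by
      have h₂' : m ≫ snd G M = s.snd := h₂
      have h₁' : lift (m ≫ fst G M) (m ≫ snd G M) ≫ act = s.fst := by rw [lift_comp_fst_snd]; exact h₁
      rw [h₂', hact] at h₁'
      have : lift (gY s.snd (m ≫ fst G M)) (xY s.snd) = l := by
        refine hcart.hom_ext ?_ (by rw [lift_snd, hcart.lift_snd])
        rw [hcart.lift_fst]
        exact Over.OverMorphism.ext ((congrArg (fun q => CommaMorphism.left q) h₁') :)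
      rw [← this, lift_fst]
    show m = lift g₀ s.snd
    refine CartesianMonoidalCategory.hom_ext _ _ ?_ (by rw [lift_snd]; exact h₂)
    rw [lift_fst]
    refine Over.OverMorphism.ext ?_
    have h3 : e₀ s.snd ≫ m ≫ fst G M = g₁ := by
      rw [Equiv.eq_symm_apply]; exact hg
    exact ((Category.id_comp _).symm.trans ((congrArg (fun q => CommaMorphism.left q) h3) :))

section Kernel

variable {S : Scheme.{u}} {J J' N P P' : Over S} [GrpObj J] [GrpObj J'] [GrpObj N]
  (u : J ⟶ J') [IsMonHom u] {a : AlgGrp.Action J P} {a' : AlgGrp.Action J' P'} {π : P ⟶ P'}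
  (hπ : a.act ≫ π = lift (fst J P ≫ u) (snd J P ≫ π) ≫ a'.act) (ha' : NonAbH1.IsPseudoTorsorSch a')

include hπ in
theorem lift_act_comp {T : Over S} (g : T ⟶ J) (x : T ⟶ P) :
    (lift g x ≫ a.act) ≫ π = lift (g ≫ u) (x ≫ π) ≫ a'.act := by
  rw [Category.assoc, hπ, comp_lift_assoc, lift_fst_assoc, lift_snd_assoc]

include hπ ha' in
/-- A torsor is a torsor under the kernel over the pushed forward torsor. -/
theorem isPullback_restrict (ha : NonAbH1.IsPseudoTorsorSch a) (i : N ⟶ J) [IsMonHom i] [Mono i]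
    (hi : i ≫ u = 1) (hlift : ∀ {T : Over S} (g : T ⟶ J), g ≫ u = 1 → ∃ n : T ⟶ N, n ≫ i = g) :
    IsPullback (a.restrict i).act (snd N P) π π := by
  have hr : ∀ {T : Over S} (n : T ⟶ N) (x : T ⟶ P),
      lift n x ≫ (a.restrict i).act = lift (n ≫ i) x ≫ a.act := fun n x => by
    rw [AlgGrp.Action.restrict_act, lift_whiskerRight_assoc]
  have hw : ∀ {T : Over S} (n : T ⟶ N) (x : T ⟶ P), (lift n x ≫ (a.restrict i).act) ≫ π = x ≫ π := fun n x => by
    rw [hr, lift_act_comp u hπ, Category.assoc, hi, MonObj.comp_one, a'.lift_one_act]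
  have hex : ∀ {T : Over S} (y x : T ⟶ P), y ≫ π = x ≫ π →
      ∃! n : T ⟶ N, lift n x ≫ (a.restrict i).act = y := by
    intro T y x e
    obtain ⟨g, hg, hu⟩ := existsUnique_diff ha x y
    have hgu : g ≫ u = 1 := eq_one_of_fixed ha' _ (x ≫ π) (by rw [← lift_act_comp u hπ, hg, e])
    obtain ⟨n, hn⟩ := hlift g hgu
    refine ⟨n, by dsimp only; rw [hr, hn, hg], fun n' hn' => ?_⟩
    rw [← cancel_mono i, hn]
    exact hu _ ((hr n' x).symm.trans hn')
  refine IsPullback.of_isLimit' ⟨?_⟩ (PullbackCone.IsLimit.mk _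
    (fun s => lift (hex s.fst s.snd s.condition).choose s.snd)
    (fun s => (hex s.fst s.snd s.condition).choose_spec.1) (fun s => lift_snd _ _) fun s m h₁ h₂ => ?_)
  · have := hw (fst N P) (snd N P)
    rwa [lift_fst_snd, Category.id_comp] at this
  · have h₁' : m ≫ (a.restrict i).act = s.fst := h₁
    have h₂' : m ≫ snd N P = s.snd := h₂
    refine CartesianMonoidalCategory.hom_ext _ _ ?_ (by rw [lift_snd]; exact h₂')
    rw [lift_fst]
    exact (hex s.fst s.snd s.condition).choose_spec.2 _ (by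
      dsimp only
      rw [← h₂', lift_comp_fst_snd, h₁'])

include hπ ha' in
/-- The map to the pushed forward torsor has sections locally for the fpqc topology. -/
theorem isLocallyTrivialFor_map (hP : NonAbH1.IsLocallyTrivialFor Scheme.fpqcPrecoverage P)
    (hlift : ∀ {T : Over S} (h : T ⟶ J'), ∃ (T' : Over S) (f : T' ⟶ T),
      Flat f.left ∧ Surjective f.left ∧ QuasiCompact f.left ∧ ∃ g : T' ⟶ J, g ≫ u = f ≫ h) :
    NonAbH1.IsLocallyTrivialFor Scheme.fpqcPrecoverage (Over.mk π.left : Over P'.left) := by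
  obtain ⟨R₀, hR₀, hs⟩ := hP
  let R := R₀.pullbackArrows P'.hom
  have hR : R ∈ Scheme.fpqcPrecoverage P'.left := Precoverage.pullbackArrows_mem P'.hom hR₀
  let W : R.uncurry → Scheme.{u} := fun i => i.1.1
  let f : ∀ i : R.uncurry, W i ⟶ P'.left := fun i => i.1.2
  have hof : Presieve.ofArrows W f = R := by
    funext Z
    ext g
    exact ⟨fun ⟨i⟩ => i.2, fun hg => ⟨(⟨⟨Z, g⟩, hg⟩ : R.uncurry)⟩⟩
  have key : ∀ i : R.uncurry, ∃ (W' : Scheme.{u}) (p : W' ⟶ W i),
      Flat p ∧ Surjective p ∧ QuasiCompact p ∧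
        NonAbH1.HasSectionOver (Over.mk π.left : Over P'.left) (p ≫ f i) := by
    intro i
    obtain ⟨⟨W₀, w⟩, hw⟩ := i
    have hp : NonAbH1.HasSectionOver P (w ≫ P'.hom) := by
      obtain ⟨Z, r, hr⟩ := hw
      obtain ⟨s, hs'⟩ := hs r hr
      exact ⟨pullback.fst r P'.hom ≫ s, by rw [Category.assoc, hs']; exact pullback.condition⟩
    obtain ⟨s, hs'⟩ := hp
    let T : Over S := Over.mk (w ≫ P'.hom)
    let x : T ⟶ P := Over.homMk s hs'
    let y : T ⟶ P' := Over.homMk w rfl
    obtain ⟨h, hh, -⟩ := existsUnique_diff ha' (x ≫ π) y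
    obtain ⟨T', p, hp₁, hp₂, hp₃, g, hg⟩ := hlift h
    refine ⟨T'.left, p.left, hp₁, hp₂, hp₃, (lift g (p ≫ x) ≫ a.act).left, ?_⟩
    show (lift g (p ≫ x) ≫ a.act).left ≫ π.left = p.left ≫ w
    rw [← Over.comp_left, lift_act_comp u hπ, hg, Category.assoc, ← comp_lift_assoc, hh]
    rfl
  choose W' p hp₁ hp₂ hp₃ hsec using key
  refine ⟨_, Precoverage.comp_mem_coverings f (show Presieve.ofArrows W f ∈ _ by rw [hof]; exact hR) (σ := fun _ => PUnit.{1})
    (fun i _ => p i) (fun i => ?_), ?_⟩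
  · rw [Presieve.ofArrows_pUnit]
    haveI := hp₁ i
    haveI := hp₂ i
    haveI := hp₃ i
    exact Scheme.Hom.singleton_mem_fpqcPrecoverage (p i)
  · rintro Z g ⟨⟨i, -⟩⟩
    exact hsec i

end Kernel

end

end Groth.Agent.GLDescent
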