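import Groth.Agent.GrpScheme.GLnPts
import Mathlib.RingTheory.Localization.Away.Basic
import Mathlib.RingTheory.Flat.Basic
import Mathlib.RingTheory.Flat.Stability
import Mathlib.AlgebraicGeometry.Morphisms.Flat

/-!
# The general linear group is flat and affine
-/

set_option autoImplicit false

universe u

open CategoryTheory AlgebraicGeometry Limits

namespace Groth.Agent.GLDescent

noncomputable section

theorem moduleFlat_coordGLn (n : ℕ) (k : Type u) [CommRing k] : Module.Flat k (CoordGrp.GLn n k) := by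
  let Q := MvPolynomial (Fin n × Fin n) k
  let M : Matrix (Fin n) (Fin n) Q := Matrix.of fun i j => MvPolynomial.X (i, j)
  let L := Localization.Away M.det
  let M' : Matrix (Fin n) (Fin n) L := (Algebra.ofId Q L).restrictScalars k |>.mapMatrix M
  have hM' : M'.det = algebraMap Q L M.det := (AlgHom.map_det _ M).symm
  obtain ⟨d, hd⟩ := (hM' ▸ IsLocalization.Away.algebraMap_isUnit M.det : IsUnit M'.det).exists_right_inv
  let ψ : CoordGrp.GLn n k →ₐ[k] L := CoordGrp.GLn.pt n k M' d hd
  let e : Q →ₐ[k] CoordGrp.GLn n k := MvPolynomial.aeval fun p => CoordGrp.GLn.X p.1 p.2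
  have he : e M.det = CoordGrp.GLn.det := by
    rw [CoordGrp.GLn.det_eq, AlgHom.map_det]
    congr 1
    ext i j
    exact (MvPolynomial.aeval_X _ _).trans rfl
  have heu : ∀ y : Submonoid.powers M.det, IsUnit (e y) := fun y => by
    obtain ⟨_, m, rfl⟩ := y
    show IsUnit (e (M.det ^ m))
    rw [map_pow, he]
    exact (IsUnit.of_mul_eq_one _ CoordGrp.GLn.det_mul_Dinv).pow m
  let φ : L →ₐ[k] CoordGrp.GLn n k := IsLocalization.liftAlgHom heu
  have hφ : ∀ q, φ (algebraMap Q L q) = e q := fun q => IsLocalization.lift_eq heu q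
  have h : φ.comp ψ = AlgHom.id k _ := by
    have hX : ∀ i j, (φ.comp ψ) (CoordGrp.GLn.X i j) = CoordGrp.GLn.X i j := fun i j => by
      show φ (ψ _) = _
      rw [CoordGrp.GLn.pt_X]
      exact (hφ _).trans (MvPolynomial.aeval_X _ _)
    refine CoordGrp.GLn.algHom_ext (fun i j => (hX i j).trans rfl) ?_
    have hdet : (φ.comp ψ) CoordGrp.GLn.det = CoordGrp.GLn.det := by
      rw [CoordGrp.GLn.det_eq, AlgHom.map_det]
      congr 1
      ext i j
      exact hX i j
    have h1 := congrArg (φ.comp ψ) (CoordGrp.GLn.det_mul_Dinv (n := n) (k := k))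
    rw [map_mul, map_one, hdet] at h1
    exact (IsUnit.of_mul_eq_one _ CoordGrp.GLn.det_mul_Dinv).mul_left_cancel
      (h1.trans CoordGrp.GLn.det_mul_Dinv.symm)
  haveI : Module.Flat k L := Module.Flat.trans k Q L
  exact Module.Flat.of_retract ψ.toLinearMap φ.toLinearMap (LinearMap.ext fun x => DFunLike.congr_fun h x)

theorem flat_specMap {A B : Type u} [CommRing A] [CommRing B] [Algebra A B] [Module.Flat A B] :
    Flat (Spec.map (CommRingCat.ofHom (algebraMap A B))) :=
  (HasRingHomProperty.Spec_iff (P := @Flat)).2 (RingHom.flat_algebraMap_iff.2 ‹_›)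

instance flat_GLn (n : ℕ) (S : Scheme.{u}) : Flat (FrB.GLn n S).hom := by
  haveI := moduleFlat_coordGLn n (ULift.{u} ℤ)
  haveI : Flat (FrB.GLZ.{u} n).hom := flat_specMap
  exact MorphismProperty.pullback_snd (P := @Flat) _ _ inferInstance

instance isAffineHom_GLn (n : ℕ) (S : Scheme.{u}) : IsAffineHom (FrB.GLn n S).hom := by
  haveI : IsAffineHom (FrB.GLZ.{u} n).hom :=
    inferInstanceAs (IsAffineHom (Spec.map (CommRingCat.ofHom (algebraMap (ULift.{u} ℤ) (CoordGrp.GLn n (ULift.{u} ℤ))))))
  exact MorphismProperty.pullback_snd (P := @IsAffineHom) _ _ inferInstance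

instance flat_diag (R : Type u) [CommRing R] (M : Type) [AddCommGroup M] : Flat (Red.diag R M).hom :=
  flat_specMap

instance isAffineHom_diag (R : Type u) [CommRing R] (M : Type) [AddCommGroup M] : IsAffineHom (Red.diag R M).hom :=
  inferInstanceAs (IsAffineHom (Spec.map (CommRingCat.ofHom (algebraMap R (MonoidAlgebra R (Multiplicative M))))))

instance flat_bc {S S' : Scheme.{u}} (f : S' ⟶ S) (X : Over S) [Flat X.hom] : Flat (Red.bc f X).hom :=
  MorphismProperty.pullback_snd (P := @Flat) _ _ inferInstance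

instance isAffineHom_bc {S S' : Scheme.{u}} (f : S' ⟶ S) (X : Over S) [IsAffineHom X.hom] :
    IsAffineHom (Red.bc f X).hom :=
  MorphismProperty.pullback_snd (P := @IsAffineHom) _ _ inferInstance

end

end Groth.Agent.GLDescent
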