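import Groth.Agent.GLDescent.Torsor
import Groth.Prelude.Def_Red

/-!
# Groups with an injective matrix representation are special
-/

set_option autoImplicit false
set_option linter.style.haveILetI false

universe u

open CategoryTheory CategoryTheory.Limits MonoidalCategory CartesianMonoidalCategory MonObj AlgebraicGeometry

namespace Groth.Agent.GLDescent

open Groth.Agent.GITLib

noncomputable section

/-- Local sections on opens give local triviality for the Zariski topology. -/
theorem isLocallyTrivialFor_zariski {S : Scheme.{u}} {X : Over S}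
    (h : ∀ x : S, ∃ U : S.Opens, x ∈ U ∧ NonAbH1.HasSectionOver X U.ι) :
    NonAbH1.IsLocallyTrivialFor Scheme.zariskiPrecoverage X := by
  choose U hU hs using h
  let 𝒰 := S.openCoverOfIsOpenCover U
    (TopologicalSpace.IsOpenCover.mk (eq_top_iff.2 fun x _ => TopologicalSpace.Opens.mem_iSup.2 ⟨x, hU x⟩))
  refine ⟨Presieve.ofArrows 𝒰.X 𝒰.f, 𝒰.mem₀, ?_⟩
  rintro S' f ⟨i⟩
  exact hs i

section

variable {S : Scheme.{u}} {H P : Over S} [GrpObj H] [Flat H.hom] [IsAffineHom H.hom] {a : AlgGrp.Action H P}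
  (ha : NonAbH1.IsTorsorFor Scheme.fpqcPrecoverage a) {n : Type} [Fintype n] [DecidableEq n]
  (ρ : ∀ {T : Over S}, (T ⟶ H) → Matrix n n Γ(T.left, ⊤))

include ha in
/-- A torsor under a group with a matrix representation identifying points with invertible matrices
has sections Zariski locally on the base. -/
theorem exists_zariski_section (hρm : ∀ {T : Over S} (g h : T ⟶ H), ρ (g * h) = ρ g * ρ h)
    (hρd : ∀ {T : Over S} (g : T ⟶ H), IsUnit (ρ g).det)
    (hρn : ∀ {T T' : Over S} (k : T' ⟶ T) (g : T ⟶ H), ρ (k ≫ g) = (ρ g).map k.left.appTop)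
    (hρi : ∀ {T : Over S} (g h : T ⟶ H), ρ g = ρ h → g = h)
    (hρs : ∀ {T : Over S} (M : Matrix n n Γ(T.left, ⊤)), IsUnit M.det → ∃ g : T ⟶ H, ρ g = M) :
    NonAbH1.IsTorsorFor Scheme.zariskiPrecoverage a := by
  refine ⟨ha.1, isLocallyTrivialFor_zariski fun x => ?_⟩
  obtain ⟨U, hx, Φ, hΦd, hΦ⟩ := exists_local_frame ha ρ hρm hρd hρn x
  obtain ⟨g₁, hg₁⟩ := hρs Φ⁻¹ (Matrix.isUnit_nonsing_inv_det Φ hΦd)
  have hinv : ∀ {T : Over S} (q : T ⟶ Over.mk U.ι ⊗ P), ρ (q ≫ g₁) * Φ.map q.left.appTop = 1 := fun {T} q => by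
    rw [hρn, hg₁, ← Matrix.map_mul, Matrix.nonsing_inv_mul Φ hΦd, Matrix.map_one _ (map_zero _) (map_one _)]
  obtain ⟨r, -⟩ := exists_desc_pt (T := Over.mk U.ι) (Z := P) ha.2
    (fun {T'} f p => lift (lift f p ≫ g₁) p ≫ a.act)
    (fun {T' T''} k f p => by simp only [comp_lift_assoc, comp_lift])
    (fun {T'} f p p' => by
      obtain ⟨g, hg, -⟩ := existsUnique_diff ha.1 p p'
      have h1 := hΦ g (lift f p)
      rw [lift_fst, lift_snd, hg] at h1
      have h2 := hinv (lift f p')
      rw [h1, ← Matrix.mul_assoc] at h2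
      have h3 := hinv (lift f p)
      have h4 : ρ (lift f p ≫ g₁) = ρ (lift f p' ≫ g₁) * ρ g := by
        calc ρ (lift f p ≫ g₁) = ρ (lift f p' ≫ g₁) * ρ g * Φ.map (lift f p).left.appTop * ρ (lift f p ≫ g₁) := by
              rw [h2, Matrix.one_mul]
          _ = _ := by rw [Matrix.mul_assoc, mul_eq_one_comm.1 h3, Matrix.mul_one]
      rw [← hρm] at h4
      rw [hρi _ _ h4, a.lift_mul_act, hg])
  exact ⟨U, hx, r.left, Over.w r⟩

end

section

variable {S₀ : Scheme.{u}} {G X Y : Over S₀} [GrpObj G]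

/-- A cartesian quotient square gives a pseudo-torsor over the quotient. -/
theorem exists_action_over (a : AlgGrp.Action G X) (φ : X ⟶ Y) (hcart : IsPullback a.act (snd G X) φ φ) :
    ∃ b : AlgGrp.Action (Red.bc Y.hom G) (Over.mk φ.left : Over Y.left), NonAbH1.IsPseudoTorsorSch b := by
  let P : Over Y.left := Over.mk φ.left
  let H := Red.bc Y.hom G
  let adj := Over.mapPullbackAdj Y.hom
  let gk : ∀ {T : Over Y.left} (_ : T ⟶ H), (Over.map Y.hom).obj T ⟶ G := fun {T} g => (adj.homEquiv T G).symm g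
  let xk : ∀ {T : Over Y.left} (_ : T ⟶ P), (Over.map Y.hom).obj T ⟶ X := fun {T} x =>
    Over.homMk x.left (by
      show x.left ≫ X.hom = T.hom ≫ Y.hom
      rw [← Over.w φ, ← Category.assoc]
      exact congrArg (· ≫ Y.hom) (Over.w x))
  have hgn : ∀ {T T' : Over Y.left} (k : T' ⟶ T) (g : T ⟶ H), gk (k ≫ g) = (Over.map Y.hom).map k ≫ gk g :=
    fun k g => Adjunction.homEquiv_naturality_left_symm adj k g
  have hgm : ∀ {T : Over Y.left} (g g' : T ⟶ H), gk (g * g') = gk g * gk g' := fun {T} g g' => by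
    apply (adj.homEquiv T G).injective
    rw [Equiv.apply_symm_apply, Adjunction.homEquiv_unit, Functor.map_mul, MonObj.comp_mul,
      ← Adjunction.homEquiv_unit, ← Adjunction.homEquiv_unit, Equiv.apply_symm_apply, Equiv.apply_symm_apply]
  have hg1 : ∀ T : Over Y.left, gk (1 : T ⟶ H) = 1 := fun T => by
    have h := hgm (1 : T ⟶ H) 1
    rw [_root_.mul_one] at h
    exact mul_eq_left.1 h.symm
  let smul : ∀ {T : Over Y.left} (_ : T ⟶ H) (_ : T ⟶ P), T ⟶ P := fun {T} g x =>
    Over.homMk (lift (gk g) (xk x) ≫ a.act).left (by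
      show (lift (gk g) (xk x) ≫ a.act).left ≫ φ.left = T.hom
      rw [← Over.comp_left, Category.assoc, hcart.w, lift_snd_assoc]
      exact Over.w x)
  have hk : ∀ {T : Over Y.left} (g : T ⟶ H) (x : T ⟶ P), xk (smul g x) = lift (gk g) (xk x) ≫ a.act :=
    fun g x => Over.OverMorphism.ext rfl
  have hxi : ∀ {T : Over Y.left} (x y : T ⟶ P), xk x = xk y → x = y := fun x y e =>
    Over.OverMorphism.ext (congrArg (fun m => m.left) e)
  let act : H ⊗ P ⟶ P := smul (fst H P) (snd H P)
  have hact : ∀ {T : Over Y.left} (g : T ⟶ H) (x : T ⟶ P), xk (lift g x ≫ act) = lift (gk g) (xk x) ≫ a.act := by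
    intro T g x
    have e : xk (lift g x ≫ act) = (Over.map Y.hom).map (lift g x) ≫ xk act := Over.OverMorphism.ext rfl
    rw [e, hk, comp_lift_assoc, ← hgn, lift_fst]
    refine congrArg (fun m => lift (gk g) m ≫ a.act) (Over.OverMorphism.ext ?_)
    exact (congrArg (fun m => CommaMorphism.left m) (lift_snd g x) :)
  let b : AlgGrp.Action H P :=
    { act := act
      one_act := by
        have : lift (1 : 𝟙_ (Over Y.left) ⊗ P ⟶ H) (snd _ P) ≫ act = snd _ P :=
          hxi _ _ (by rw [hact, hg1, a.lift_one_act])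
        rw [leftUnitor_hom, ← this]
        refine congrArg (fun w => w ≫ act) (CartesianMonoidalCategory.hom_ext _ _ ?_ ?_)
        · rw [whiskerRight_fst, lift_fst, Hom.one_def, toUnit_unique (toUnit _) (fst (𝟙_ (Over Y.left)) P)]
        · simp
      mul_act := by
        apply AlgGrp.Action.hom_ext_lift₃
        intro T g g' x
        apply hxi
        rw [lift_whiskerRight_assoc, ← Hom.mul_def, hact, hgm, a.lift_mul_act, lift_lift_associator_hom_assoc,
          lift_whiskerLeft_assoc, hact, hact] }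
  refine ⟨b, ?_⟩
  have hd : ∀ {T : Over Y.left} (x y : T ⟶ P), ∃! g : T ⟶ H, lift g x ≫ act = y := fun {T} x y => by
    have e : xk y ≫ φ = xk x ≫ φ := Over.OverMorphism.ext ((Over.w y).trans (Over.w x).symm)
    let m := hcart.lift (xk y) (xk x) e
    have hm : lift (m ≫ fst G X) (xk x) = m := by
      conv_rhs => rw [← lift_comp_fst_snd m]
      rw [hcart.lift_snd]
    refine ⟨adj.homEquiv T G (m ≫ fst G X), hxi _ _ ?_, fun g hg => ?_⟩
    · rw [hact]
      show lift ((adj.homEquiv T G).symm _) _ ≫ _ = _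
      rw [Equiv.symm_apply_apply, hm, hcart.lift_fst]
    · rw [← Equiv.symm_apply_eq]
      have : lift (gk g) (xk x) = m := hcart.hom_ext (by rw [← hact, hg, hcart.lift_fst])
        (by rw [lift_snd, hcart.lift_snd])
      rw [← this, lift_fst]
  let dg := (hd (snd P P) (fst P P)).choose
  have hdg : lift dg (snd P P) ≫ act = fst P P := (hd (snd P P) (fst P P)).choose_spec.1
  refine ⟨lift dg (snd P P), ?_, ?_⟩
  · show lift act (snd H P) ≫ lift dg (snd P P) = 𝟙 _
    rw [comp_lift, lift_snd, ← lift_fst_snd]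
    refine congrArg (fun g => lift g (snd H P)) ?_
    refine (hd (snd H P) act).unique ?_ (by rw [lift_fst_snd, Category.id_comp])
    have := congrArg (lift act (snd H P) ≫ ·) hdg
    simp only [comp_lift_assoc, lift_snd, lift_fst] at this
    exact this
  · show lift dg (snd P P) ≫ lift act (snd H P) = 𝟙 _
    rw [comp_lift, hdg, lift_snd, lift_fst_snd]

end

end

end Groth.Agent.GLDescent
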