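import Groth.Agent.GLDescent.Algebra
import Groth.Agent.GITLib.Pushforward
import Mathlib.AlgebraicGeometry.GammaSpecAdjunction

/-!
# Zariski local frames for torsors with a matrix representation of the group
-/

set_option autoImplicit false
set_option linter.style.haveILetI false

universe u

open CategoryTheory CategoryTheory.Limits MonoidalCategory CartesianMonoidalCategory MonObj AlgebraicGeometry
open scoped TensorProduct

namespace Groth.Agent.GLDescent

open Groth.Agent.GITLib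

noncomputable section

/-- The functions attached to a map to an affine scheme. -/
def fnHom {T : Scheme.{u}} {D : Type u} [CommRing D] (f : T ⟶ Spec (CommRingCat.of D)) : D →+* Γ(T, ⊤) :=
  ((Scheme.ΓSpecIso (CommRingCat.of D)).inv ≫ f.appTop).hom

theorem fnHom_comp {T T' : Scheme.{u}} {D : Type u} [CommRing D] (k : T' ⟶ T) (f : T ⟶ Spec (CommRingCat.of D)) :
    fnHom (k ≫ f) = k.appTop.hom.comp (fnHom f) := by
  rw [fnHom, fnHom, Scheme.Hom.comp_appTop]; rfl

theorem fnHom_comp_map {T : Scheme.{u}} {D E : Type u} [CommRing D] [CommRing E] (f : T ⟶ Spec (CommRingCat.of E))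
    (φ : D →+* E) : fnHom (f ≫ Spec.map (CommRingCat.ofHom φ)) = (fnHom f).comp φ := by
  rw [fnHom, fnHom, Scheme.Hom.comp_appTop, ← Scheme.ΓSpecIso_inv_naturality_assoc]; rfl

theorem eq_toSpecΓ {T : Scheme.{u}} {D : Type u} [CommRing D] (f : T ⟶ Spec (CommRingCat.of D)) :
    T.toSpecΓ ≫ Spec.map (CommRingCat.ofHom (fnHom f)) = f := by
  refine ext_of_isAffine ((cancel_epi (Scheme.ΓSpecIso (CommRingCat.of D)).inv).1 ?_)
  rw [Scheme.Hom.comp_appTop, ← Scheme.ΓSpecIso_inv_naturality_assoc, Scheme.toSpecΓ_appTop, Iso.inv_hom_id,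
    Category.comp_id]
  rfl

theorem fnHom_toSpecΓ {T : Scheme.{u}} {D : Type u} [CommRing D] (φ : D →+* Γ(T, ⊤)) :
    fnHom (T.toSpecΓ ≫ Spec.map (CommRingCat.ofHom φ)) = φ := by
  rw [fnHom, Scheme.Hom.comp_appTop, ← Scheme.ΓSpecIso_inv_naturality_assoc, Scheme.toSpecΓ_appTop, Iso.inv_hom_id,
    Category.comp_id]
  rfl

variable {S : Scheme.{u}} {H P : Over S} [GrpObj H] [Flat H.hom] [IsAffineHom H.hom] {a : AlgGrp.Action H P}
  (ha : NonAbH1.IsTorsorFor Scheme.fpqcPrecoverage a) {n : Type} [Fintype n] [DecidableEq n]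
  (ρ : ∀ {T : Over S}, (T ⟶ H) → Matrix n n Γ(T.left, ⊤))

include ha in
/-- Zariski locally on the base a torsor has an equivariant frame. -/
theorem exists_local_frame (hρm : ∀ {T : Over S} (g h : T ⟶ H), ρ (g * h) = ρ g * ρ h)
    (hρd : ∀ {T : Over S} (g : T ⟶ H), IsUnit (ρ g).det)
    (hρn : ∀ {T T' : Over S} (k : T' ⟶ T) (g : T ⟶ H), ρ (k ≫ g) = (ρ g).map k.left.appTop) (x : S) :
    ∃ U : S.Opens, x ∈ U ∧ ∃ Φ : Matrix n n Γ((Over.mk U.ι ⊗ P).left, ⊤), IsUnit Φ.det ∧
      ∀ {T : Over S} (g : T ⟶ H) (q : T ⟶ Over.mk U.ι ⊗ P),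
        Φ.map (lift (q ≫ fst _ _) (lift g (q ≫ snd _ _) ≫ a.act)).left.appTop = ρ g * Φ.map q.left.appTop := by
  classical
  haveI : MorphismProperty.DescendsAlong @IsAffineHom AlgSpCov.Fpqc.{u} := FpqcDesc.descendsAlong_isAffineHom
  haveI : IsAffineHom P.hom := property_of_torsor @IsAffineHom ha inferInstance
  haveI : Flat P.hom := property_of_torsor @Flat ha inferInstance
  haveI : Surjective P.hom := surjective_of_isLocallyTrivialFor ha.2
  obtain ⟨_, ⟨W, hW, rfl⟩, hxW, -⟩ := S.isBasis_affineOpens.exists_subset_of_mem_open (Set.mem_univ x) isOpen_univ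
  let A : Type u := Γ(S, W)
  let j : Spec (CommRingCat.of A) ⟶ S := hW.fromSpec
  let V : Over S := Over.mk j
  let π : (V ⊗ P).left ⟶ Spec (CommRingCat.of A) := pullback.fst j P.hom
  haveI : IsAffineHom π := MorphismProperty.pullback_fst (P := @IsAffineHom) _ _ inferInstance
  haveI : Flat π := MorphismProperty.pullback_fst (P := @Flat) _ _ inferInstance
  haveI : Surjective π := MorphismProperty.pullback_fst (P := @Surjective) _ _ inferInstance
  haveI : IsAffine (V ⊗ P).left := isAffine_of_isAffineHom π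
  let C : Type u := Γ((V ⊗ P).left, ⊤)
  letI algC : Algebra A C := (fnHom π).toAlgebra
  let ν : (V ⊗ P).left ⟶ Spec (CommRingCat.of C) := (V ⊗ P).left.isoSpec.hom
  have hπ : π = ν ≫ Spec.map (CommRingCat.ofHom (algebraMap A C)) := (eq_toSpecΓ π).symm
  let f := Spec.map (CommRingCat.ofHom (algebraMap A C))
  have hf : f = (V ⊗ P).left.isoSpec.inv ≫ π := by rw [Iso.eq_inv_comp]; exact hπ.symm
  haveI : Flat f := by rw [hf]; infer_instance
  haveI : Surjective f := by rw [hf]; infer_instance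
  haveI : Module.Flat A C := RingHom.flat_algebraMap_iff.1 ((HasRingHomProperty.Spec_iff (P := @Flat)).1 ‹Flat f›)
  haveI : Module.FaithfullyFlat A C :=
    Module.FaithfullyFlat.of_comap_surjective (A := A) (B := C) f.surjective
  -- points over algebras
  let SV : ∀ (D : Type u) [CommRing D] [Algebra A D], Over S := fun D _ _ =>
    Over.mk (Spec.map (CommRingCat.ofHom (algebraMap A D)) ≫ j)
  let pv : ∀ {D : Type u} [CommRing D] [Algebra A D] (φ : C →ₐ[A] D), SV D ⟶ V ⊗ P := fun {D} _ _ φ =>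
    Over.homMk (Spec.map (CommRingCat.ofHom φ.toRingHom) ≫ (V ⊗ P).left.isoSpec.inv) (by
      show (_ ≫ _) ≫ (V ⊗ P).hom = Spec.map _ ≫ j
      rw [← Over.w (fst V P), Category.assoc, show (fst V P).left = π from rfl,
        ← Category.assoc (V ⊗ P).left.isoSpec.inv, ← hf, ← Category.assoc, ← Spec.map_comp, ← CommRingCat.ofHom_comp]
      exact congrArg (fun χ => Spec.map (CommRingCat.ofHom χ) ≫ j) φ.comp_algebraMap)
  have pv_comp : ∀ {D E : Type u} [CommRing D] [Algebra A D] [CommRing E] [Algebra A E] (φ : C →ₐ[A] D)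
      (σ : D →ₐ[A] E) (k : SV E ⟶ SV D), k.left = Spec.map (CommRingCat.ofHom σ.toRingHom) →
      k ≫ pv φ = pv (σ.comp φ) := by
    intro D E _ _ _ _ φ σ k hk
    refine Over.OverMorphism.ext ?_
    show k.left ≫ _ ≫ _ = _ ≫ _
    rw [hk, ← Category.assoc, ← Spec.map_comp]
    rfl
  obtain ⟨g₀, hg₀, -⟩ := existsUnique_diff ha.1 (pv (i₂ A C) ≫ snd V P) (pv (i₁ A C) ≫ snd V P)
  let R : Matrix n n (C ⊗[A] C) := (ρ g₀).map (Scheme.ΓSpecIso (CommRingCat.of (C ⊗[A] C))).hom
  have hR : ∀ {T : Scheme.{u}} (m : T ⟶ Spec (CommRingCat.of (C ⊗[A] C))),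
      R.map (fnHom m) = (ρ g₀).map m.appTop := fun m => by
    refine Matrix.ext fun i k => ?_
    show m.appTop.hom ((Scheme.ΓSpecIso _).inv.hom ((Scheme.ΓSpecIso _).hom.hom (ρ g₀ i k))) = _
    rw [← CommRingCat.comp_apply (Scheme.ΓSpecIso _).hom, Iso.hom_inv_id]
    rfl
  have hRu : IsUnit R.det := by
    have := (hρd g₀).map (Scheme.ΓSpecIso (CommRingCat.of (C ⊗[A] C))).hom.hom
    rwa [RingHom.map_det] at this
  have hcoc : IsCocycle R := by
    refine ⟨?_, hRu⟩
    let T₃ := SV (C ⊗[A] (C ⊗[A] C))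
    let k : ∀ (u v : C →ₐ[A] C ⊗[A] (C ⊗[A] C)), T₃ ⟶ SV (C ⊗[A] C) := fun u v =>
      Over.homMk (Spec.map (CommRingCat.ofHom (pr u v).toRingHom)) (by
        show _ ≫ Spec.map _ ≫ j = Spec.map _ ≫ j
        rw [← Category.assoc, ← Spec.map_comp, ← CommRingCat.ofHom_comp]
        exact congrArg (fun χ => Spec.map (CommRingCat.ofHom χ) ≫ j) (pr u v).comp_algebraMap)
    have hk : ∀ u v, lift (k u v ≫ g₀) (pv v ≫ snd V P) ≫ a.act = pv u ≫ snd V P := by
      intro u v
      have h1 : k u v ≫ pv (i₁ A C) = pv u := by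
        rw [pv_comp (i₁ A C) (pr u v) (k u v) rfl]; exact congrArg pv (AlgHom.ext fun c => by simp)
      have h2 : k u v ≫ pv (i₂ A C) = pv v := by
        rw [pv_comp (i₂ A C) (pr u v) (k u v) rfl]; exact congrArg pv (AlgHom.ext fun c => by simp)
      have := congrArg (k u v ≫ ·) hg₀
      simp only [comp_lift_assoc, reassoc_of% h1, reassoc_of% h2] at this
      exact this
    have hc : (k (j₀ A C) (j₁ A C) ≫ g₀) * (k (j₁ A C) (j₂ A C) ≫ g₀) = k (j₀ A C) (j₂ A C) ≫ g₀ :=
      (existsUnique_diff ha.1 (pv (j₂ A C) ≫ snd V P) (pv (j₀ A C) ≫ snd V P)).unique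
        (by show lift _ _ ≫ a.act = _; rw [a.lift_mul_act, hk, hk]) (hk _ _)
    have e := congrArg ρ hc
    rw [hρm, hρn, hρn, hρn] at e
    have hev : ∀ u v : C →ₐ[A] C ⊗[A] (C ⊗[A] C), R.map (pr u v) =
        ((ρ g₀).map (k u v).left.appTop).map (Scheme.ΓSpecIso (CommRingCat.of (C ⊗[A] (C ⊗[A] C)))).hom := fun u v => by
      refine Matrix.ext fun i l => ?_
      exact (ConcreteCategory.congr_hom (Scheme.ΓSpecIso_naturality (CommRingCat.ofHom (pr u v).toRingHom)) (ρ g₀ i l)).symm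
    rw [hev, hev, hev, ← Matrix.map_mul, e]
  let p₀ : PrimeSpectrum A := hW.primeIdealOf ⟨x, hxW⟩
  obtain ⟨b, Φ, hb, hΦ, hunit⟩ := hcoc.exists_frame p₀
  let L := Localization.Away b
  let jb : Spec (CommRingCat.of L) ⟶ Spec (CommRingCat.of A) := Spec.map (CommRingCat.ofHom (algebraMap A L))
  haveI : IsOpenImmersion jb := IsOpenImmersion.of_isLocalization b
  let U : S.Opens := (jb ≫ j).opensRange
  have hxU : x ∈ U := by
    have h1 : p₀ ∈ Set.range jb.base := by
      show p₀ ∈ Set.range (PrimeSpectrum.comap (algebraMap A L))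
      rw [PrimeSpectrum.localization_away_comap_range L b]
      exact hb
    obtain ⟨z, hz⟩ := h1
    exact ⟨z, by rw [Scheme.Hom.comp_apply, hz]; exact hW.fromSpec_primeIdealOf ⟨x, hxW⟩⟩
  let lU : (U : Scheme.{u}) ⟶ Spec (CommRingCat.of L) :=
    IsOpenImmersion.lift (jb ≫ j) U.ι (by rw [Scheme.Opens.range_ι]; rfl)
  let kU : Over.mk U.ι ⟶ V := Over.homMk (lU ≫ jb) (by
    show (lU ≫ jb) ≫ j = U.ι
    rw [Category.assoc, IsOpenImmersion.lift_fac])
  let F : (Over.mk U.ι ⊗ P).left ⟶ Spec (CommRingCat.of C) := (kU ▷ P).left ≫ ν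
  refine ⟨U, hxU, Φ.map (fnHom F), ?_, fun {T} g q => ?_⟩
  · rw [← RingHom.mapMatrix_apply, ← RingHom.map_det]
    refine hunit _ (fnHom F) ?_
    have hfac : F ≫ f = ((fst (Over.mk U.ι) P).left ≫ lU) ≫ jb := by
      show ((kU ▷ P).left ≫ ν) ≫ f = _
      rw [Category.assoc, ← hπ, show π = (fst V P).left from rfl, ← Over.comp_left, whiskerRight_fst,
        Over.comp_left, Category.assoc]
      rfl
    have e := (fnHom_comp_map F (algebraMap A C)).symm.trans ((congrArg fnHom hfac).trans (fnHom_comp_map _ _))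
    rw [show fnHom F (algebraMap A C b) = fnHom ((fst (Over.mk U.ι) P).left ≫ lU) (algebraMap A L b) from
      RingHom.congr_fun e b]
    exact (IsLocalization.Away.algebraMap_isUnit b).map _
  · let q₁ := lift (q ≫ fst _ _) (lift g (q ≫ snd _ _) ≫ a.act)
    let x₁ := q₁ ≫ kU ▷ P
    let x₂ := q ≫ kU ▷ P
    let α := fnHom (x₁.left ≫ ν)
    let β := fnHom (x₂.left ≫ ν)
    have hxf : x₁ ≫ fst V P = x₂ ≫ fst V P := by simp [x₁, x₂, q₁]
    have hxx : ∀ (y : T ⟶ V ⊗ P), (fnHom (y.left ≫ ν)).comp (algebraMap A C) = fnHom (y ≫ fst V P).left := fun y => by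
      rw [← fnHom_comp_map, Category.assoc, ← hπ]
      rfl
    letI algT : Algebra A Γ(T.left, ⊤) := (fnHom (x₂ ≫ fst V P).left).toAlgebra
    have hα : α.comp (algebraMap A C) = algebraMap A Γ(T.left, ⊤) := (hxx x₁).trans (by rw [hxf]; rfl)
    have hβ : β.comp (algebraMap A C) = algebraMap A Γ(T.left, ⊤) := hxx x₂
    let α' : C →ₐ[A] Γ(T.left, ⊤) := { α with commutes' := fun r => RingHom.congr_fun hα r }
    let β' : C →ₐ[A] Γ(T.left, ⊤) := { β with commutes' := fun r => RingHom.congr_fun hβ r }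
    let m₀ : T.left ⟶ Spec (CommRingCat.of (C ⊗[A] C)) :=
      T.left.toSpecΓ ≫ Spec.map (CommRingCat.ofHom (pr α' β').toRingHom)
    let m : T ⟶ SV (C ⊗[A] C) := Over.homMk m₀ (by
      show m₀ ≫ Spec.map _ ≫ j = T.hom
      rw [← Category.assoc, show m₀ ≫ Spec.map _ = (x₂ ≫ fst V P).left from ?_]
      · exact Over.w (x₂ ≫ fst V P)
      · rw [Category.assoc, ← Spec.map_comp, ← CommRingCat.ofHom_comp]
        refine Eq.trans ?_ (eq_toSpecΓ _)
        exact congrArg (fun χ => T.left.toSpecΓ ≫ Spec.map (CommRingCat.ofHom χ)) (pr α' β').comp_algebraMap)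
    have hm : ∀ (i : C →ₐ[A] C ⊗[A] C) (y : T ⟶ V ⊗ P), (pr α' β').toRingHom.comp i.toRingHom = fnHom (y.left ≫ ν) →
        m ≫ pv i = y := by
      intro i y hi
      refine Over.OverMorphism.ext ?_
      show (T.left.toSpecΓ ≫ _) ≫ _ ≫ _ = y.left
      rw [← Category.assoc, Category.assoc T.left.toSpecΓ, ← Spec.map_comp, ← CommRingCat.ofHom_comp, hi, eq_toSpecΓ,
        Category.assoc]
      show y.left ≫ (V ⊗ P).left.isoSpec.hom ≫ _ = y.left
      rw [Iso.hom_inv_id, Category.comp_id]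
    have h1 : m ≫ pv (i₁ A C) = x₁ := hm _ _ (RingHom.ext fun c => by simp [α', α])
    have h2 : m ≫ pv (i₂ A C) = x₂ := hm _ _ (RingHom.ext fun c => by simp [β', β])
    have hg : m ≫ g₀ = g := by
      refine (existsUnique_diff ha.1 (x₂ ≫ snd V P) (x₁ ≫ snd V P)).unique ?_ ?_
      · have := congrArg (m ≫ ·) hg₀
        simp only [comp_lift_assoc, reassoc_of% h1, reassoc_of% h2] at this
        exact this
      · show lift g _ ≫ a.act = _
        simp [x₁, x₂, q₁]
    have e := congrArg (fun M : Matrix n n (C ⊗[A] C) => M.map (fnHom m₀)) hΦ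
    simp only [Matrix.map_mul, hR, Matrix.map_map] at e
    rw [show m₀ = m.left from rfl, ← hρn, hg] at e
    have hq : ∀ (y : T ⟶ Over.mk U.ι ⊗ P), (Φ.map (fnHom F)).map y.left.appTop = Φ.map (fnHom ((y ≫ kU ▷ P).left ≫ ν)) :=
      fun y => by
        rw [Matrix.map_map]
        refine congrArg Φ.map (funext fun c => ?_)
        rw [show (y ≫ kU ▷ P).left ≫ ν = y.left ≫ F from Category.assoc _ _ _, fnHom_comp]
        rfl
    rw [hq, hq]
    refine Eq.trans ?_ (e.trans (congrArg (ρ g * ·) ?_))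
    · refine congrArg Φ.map (funext fun c => ?_)
      show α c = _
      rw [Function.comp_apply, show fnHom m.left = (pr α' β').toRingHom from fnHom_toSpecΓ _]
      simp [α']
    · refine congrArg Φ.map (funext fun c => ?_)
      show _ = β c
      rw [Function.comp_apply, show fnHom m.left = (pr α' β').toRingHom from fnHom_toSpecΓ _]
      simp [β']

end

end Groth.Agent.GLDescent
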